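import Mathlib
import Cfsg.Agent.Blocks.CoverConj
import Cfsg.Agent.Blocks.Over
import Cfsg.Agent.Blocks.Fong
import Cfsg.Agent.Blocks.Knorr
import Cfsg.Agent.S0914

/-!
# Characters of a block are proportional on normal `p'`-subgroups

* `apply_div_of_sameBlock` : `χ n / χ 1 = χ' n / χ' 1` for `n ∈ N`, `N` normal of order prime to `p`, `χ`, `χ'` in
  the same block.
-/

set_option autoImplicit false

namespace Cfsg.Agent.H967.TI

open Cfsg Subgroup
open scoped ComplexConjugate Pointwise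
open Cfsg.Agent.Characters Cfsg.Agent.Characters.Core
open Cfsg.Agent.Blocks.Covering (conjIrr conjIrr_apply conjIrr_at_one)

universe u

variable {H : Type u} [Group H] [Finite H] {p : ℕ} [Fact p.Prime] {M : Ideal AlgInt}

theorem induced_conjIrr (N : Subgroup H) [N.Normal] (g : H) (θ : IrrCharacter N) (x : H) :
    inducedCentralChar N (conjIrr N g θ : N → ℂ) x = inducedCentralChar N (θ : N → ℂ) x := by
  unfold inducedCentralChar
  have key : ∀ n : N, IsConj x ((MulAut.conjNormal g n : N) : H) ↔ IsConj x (n : H) := by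
    intro n
    rw [MulAut.conjNormal_apply]
    have h1 : IsConj (n : H) (g * n * g⁻¹) := isConj_iff.2 ⟨g, rfl⟩
    exact ⟨fun h => h.trans h1.symm, fun h => h.trans h1⟩
  refine finsum_mem_eq_of_bijOn (MulAut.conjNormal g) ⟨?_, ?_, ?_⟩ ?_
  · intro n hn
    exact (key n).2 hn
  · exact (MulAut.conjNormal (H := N) g).injective.injOn
  · intro n hn
    refine ⟨(MulAut.conjNormal (H := N) g).symm n, ?_, (MulAut.conjNormal (H := N) g).apply_symm_apply n⟩
    refine (key _).1 ?_
    rw [MulEquiv.apply_symm_apply]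
    exact hn
  · intro n _
    rw [conjIrr_apply, conjIrr_at_one]

/-- Characters of a block are proportional on normal `p'`-subgroups. -/
theorem apply_div_of_sameBlock (hM : IsPModular p M) (N : Subgroup H) [N.Normal] (hN : ¬ p ∣ Nat.card N)
    {χ χ' : IrrCharacter H} (hs : SameBlock M (χ : H → ℂ) (χ' : H → ℂ)) {n : H} (hn : n ∈ N) :
    (χ : H → ℂ) n / (χ : H → ℂ) 1 = (χ' : H → ℂ) n / (χ' : H → ℂ) 1 := by
  classical
  have := hM.2.1.isPrime
  have := Fintype.ofFinite H
  have := Fintype.ofFinite N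
  obtain ⟨θ, hθ⟩ := Blocks.Fong.exists_constituent N χ
  obtain ⟨θ', hθ'⟩ := Blocks.Fong.exists_constituent N χ'
  have e1 : ∀ n : N, centralChar (χ : H → ℂ) (n : H) = inducedCentralChar N (θ : N → ℂ) (n : H) :=
    Blocks.Over.centralChar_eq_of_over N χ.2 θ.2 hθ
  have e2 : ∀ n : N, centralChar (χ' : H → ℂ) (n : H) = inducedCentralChar N (θ' : N → ℂ) (n : H) :=
    Blocks.Over.centralChar_eq_of_over N χ'.2 θ'.2 hθ'
  have hb : IsPBlock M ({θ} : Set (IrrCharacter N)) := by
    refine ⟨θ, ((S0914.result p M hM θ).mp fun h => hN (h.trans ?_)).symm⟩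
    exact Nat.div_dvd_of_dvd (Blocks.Knorr.charDegree_dvd θ.2)
  obtain ⟨g, hg⟩ := Blocks.CoverConj.exists_conjIrr_mem p hM N {θ} hb θ rfl θ' (fun n => by
    rw [← e1, ← e2]
    exact Blocks.Fong.sameBlock_symm hs _)
  have e3 : centralChar (χ : H → ℂ) n = centralChar (χ' : H → ℂ) n := by
    rw [e1 ⟨n, hn⟩, e2 ⟨n, hn⟩, ← induced_conjIrr N g θ', Set.mem_singleton_iff.1 hg]
  unfold centralChar at e3
  have h0 : ((centralizer ({n} : Set H)).index : ℂ) ≠ 0 :=
    Nat.cast_ne_zero.2 Subgroup.index_ne_zero_of_finite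
  rw [mul_div_assoc, mul_div_assoc] at e3
  exact mul_left_cancel₀ h0 e3

end Cfsg.Agent.H967.TI
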