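import Mathlib

/-!
# The form `(v_1² + ∑ (v_i - v_{i+1})² + v_l²) / 2`

`coef j i` (`i < l`, `j ≤ l`) is the coefficient of `v_i` in `v_j - v_{j-1}`.

* `two_le` : the sum of the squares is at least `2` for integral `v ≠ 0`;
* `sum_coef_sq` : the sum of the squares of all coefficients is `2 * l`;
* `mono_bound` : for monotone nonnegative `a` the sum of squares is at most `2 * A ^ 2`, `A` the largest value.
-/

set_option autoImplicit false

namespace Cfsg.Agent.H967.TI.Path

/-- The coefficients. -/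
def coef (j i : ℕ) : ℤ := (if i = j then 1 else 0) - (if i + 1 = j then 1 else 0)

/-- The extension of a finite sequence by zeros at both ends. -/
def gx {R : Type*} [Zero R] {l : ℕ} (a : Fin l → R) : ℕ → R
  | 0 => 0
  | n + 1 => if h : n < l then a ⟨n, h⟩ else 0

theorem sum_ite_eq {R : Type*} [CommRing R] {l : ℕ} (a : Fin l → R) (j : ℕ) :
    ∑ i : Fin l, (if (i : ℕ) = j then (1 : R) else 0) * a i = gx a (j + 1) := by
  simp only [gx]
  split_ifs with h
  · rw [Finset.sum_eq_single (⟨j, h⟩ : Fin l)]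
    · simp
    · intro i _ hi
      have : (i : ℕ) ≠ j := fun h' => hi (Fin.ext h')
      rw [if_neg this, zero_mul]
    · intro h'
      exact absurd (Finset.mem_univ _) h'
  · refine Finset.sum_eq_zero fun i _ => ?_
    have : (i : ℕ) ≠ j := fun h' => h (h' ▸ i.2)
    rw [if_neg this, zero_mul]

theorem sum_coef {R : Type*} [CommRing R] {l : ℕ} (a : Fin l → R) (j : ℕ) :
    ∑ i : Fin l, ((coef j i : ℤ) : R) * a i = gx a (j + 1) - gx a j := by
  have h1 : ∀ i : Fin l, ((coef j i : ℤ) : R) * a i =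
      (if (i : ℕ) = j then (1 : R) else 0) * a i - (if (i : ℕ) + 1 = j then (1 : R) else 0) * a i := by
    intro i
    unfold coef
    push_cast
    ring
  rw [Finset.sum_congr rfl fun i _ => h1 i, Finset.sum_sub_distrib, sum_ite_eq]
  congr 1
  rcases j with _ | j
  · refine Finset.sum_eq_zero fun i _ => ?_
    rw [if_neg (by omega), zero_mul]
  · rw [← sum_ite_eq]
    refine Finset.sum_congr rfl fun i _ => ?_
    have : ((i : ℕ) + 1 = j + 1) = ((i : ℕ) = j) := by simp
    simp only [this]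

theorem gx_last {R : Type*} [CommRing R] {l : ℕ} (a : Fin l → R) : gx a (l + 1) = 0 := by
  simp [gx]

theorem gx_coe {R : Type*} [CommRing R] {l : ℕ} (a : Fin l → R) (i : Fin l) : gx a (i + 1) = a i := by
  simp [gx]

/-- The sum of squares is at least `2`. -/
theorem two_le {l : ℕ} (v : Fin l → ℤ) (hv : v ≠ 0) :
    2 ≤ ∑ j : Fin (l + 1), (∑ i : Fin l, coef j i * v i) ^ 2 := by
  have h1 : ∀ j : ℕ, ∑ i : Fin l, coef j i * v i = gx v (j + 1) - gx v j := by
    intro j
    have := sum_coef v j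
    simpa using this
  rw [Fin.sum_univ_eq_sum_range (fun j : ℕ => (∑ i : Fin l, coef j i * v i) ^ 2) (l + 1)]
  simp only [h1]
  have h2 : ∑ j ∈ Finset.range (l + 1), (gx v (j + 1) - gx v j) = 0 := by
    rw [Finset.sum_range_sub (gx v), gx_last]
    simp [gx]
  have h3 : Even (∑ j ∈ Finset.range (l + 1), (gx v (j + 1) - gx v j) ^ 2) := by
    have h4 : ∑ j ∈ Finset.range (l + 1), (gx v (j + 1) - gx v j) ^ 2 =
        ∑ j ∈ Finset.range (l + 1), ((gx v (j + 1) - gx v j) ^ 2 - (gx v (j + 1) - gx v j)) := by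
      rw [Finset.sum_sub_distrib, h2, sub_zero]
    rw [h4]
    refine Finset.even_sum _ fun j _ => ?_
    rw [pow_two, ← mul_sub_one]
    exact Int.even_mul_pred_self _
  have h5 : 0 ≤ ∑ j ∈ Finset.range (l + 1), (gx v (j + 1) - gx v j) ^ 2 :=
    Finset.sum_nonneg fun j _ => sq_nonneg _
  have h6 : ∑ j ∈ Finset.range (l + 1), (gx v (j + 1) - gx v j) ^ 2 ≠ 0 := by
    intro h0
    rw [Finset.sum_eq_zero_iff_of_nonneg fun j _ => sq_nonneg _] at h0
    have h7 : ∀ n : ℕ, n ≤ l → gx v n = 0 := by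
      intro n
      induction n with
      | zero => intro _; rfl
      | succ n ih =>
        intro hn
        have h8 := h0 n (Finset.mem_range.2 (by omega))
        rw [pow_eq_zero_iff two_ne_zero, sub_eq_zero] at h8
        rw [h8]
        exact ih (by omega)
    apply hv
    funext i
    rw [← gx_coe v i]
    exact h7 _ i.2
  obtain ⟨m, hm⟩ := h3
  omega

theorem coef_sq (j i : ℕ) : coef j i ^ 2 = (if i = j then 1 else 0) + (if i + 1 = j then 1 else 0) := by
  unfold coef
  split_ifs with h1 h2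
  · omega
  · norm_num
  · norm_num
  · norm_num

theorem sum_coef_sq_col {l : ℕ} (i : Fin l) : ∑ j : Fin (l + 1), coef j i ^ 2 = 2 := by
  simp only [coef_sq]
  rw [Finset.sum_add_distrib]
  have h1 : ∑ j : Fin (l + 1), (if (i : ℕ) = j then (1 : ℤ) else 0) = 1 := by
    rw [Finset.sum_eq_single (⟨i, by omega⟩ : Fin (l + 1))]
    · simp
    · intro j _ hj
      exact if_neg fun h => hj (Fin.ext h.symm)
    · intro h; exact absurd (Finset.mem_univ _) h
  have h2 : ∑ j : Fin (l + 1), (if (i : ℕ) + 1 = j then (1 : ℤ) else 0) = 1 := by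
    rw [Finset.sum_eq_single (⟨i + 1, by omega⟩ : Fin (l + 1))]
    · simp
    · intro j _ hj
      exact if_neg fun h => hj (Fin.ext h.symm)
    · intro h; exact absurd (Finset.mem_univ _) h
  rw [h1, h2]
  norm_num

theorem sum_coef_sq (l : ℕ) : ∑ j : Fin (l + 1), ∑ i : Fin l, coef j i ^ 2 = 2 * l := by
  rw [Finset.sum_comm, Finset.sum_congr rfl fun i _ => sum_coef_sq_col i]
  simp [mul_comm]

theorem sum_sq_le (s : Finset ℕ) (f : ℕ → ℝ) (h : ∀ j ∈ s, 0 ≤ f j) :
    ∑ j ∈ s, f j ^ 2 ≤ (∑ j ∈ s, f j) ^ 2 := by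
  induction s using Finset.induction_on with
  | empty => simp
  | insert a s ha ih =>
    rw [Finset.sum_insert ha, Finset.sum_insert ha]
    have h1 := ih fun j hj => h j (Finset.mem_insert_of_mem hj)
    have h2 := h a (Finset.mem_insert_self a s)
    have h3 : 0 ≤ ∑ j ∈ s, f j := Finset.sum_nonneg fun j hj => h j (Finset.mem_insert_of_mem hj)
    nlinarith [mul_nonneg h2 h3]

/-- The bound for monotone nonnegative sequences. -/
theorem mono_bound {l : ℕ} (a : Fin l → ℝ) (ha : Monotone a) (h0 : ∀ i, 0 ≤ a i) {A : ℝ}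
    (hA : ∀ i, a i ≤ A) (hA0 : 0 ≤ A) :
    ∑ j : Fin (l + 1), (∑ i : Fin l, (coef j i : ℝ) * a i) ^ 2 ≤ 2 * A ^ 2 := by
  rw [Fin.sum_univ_eq_sum_range (fun j : ℕ => (∑ i : Fin l, (coef j i : ℝ) * a i) ^ 2) (l + 1)]
  simp only [sum_coef]
  rw [Finset.sum_range_succ]
  have h1 : ∀ j ∈ Finset.range l, 0 ≤ gx a (j + 1) - gx a j := by
    intro j hj
    rw [Finset.mem_range] at hj
    rw [sub_nonneg]
    rcases j with _ | j
    · simp only [gx]
      rw [dif_pos hj]
      exact h0 _
    · simp only [gx]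
      rw [dif_pos hj, dif_pos (by omega)]
      exact ha (by simp [Fin.le_def])
  have h2 : gx a l ≤ A ∧ 0 ≤ gx a l := by
    rcases l with _ | l
    · exact ⟨hA0, le_refl _⟩
    · simp only [gx]
      rw [dif_pos (Nat.lt_succ_self l)]
      exact ⟨hA _, h0 _⟩
  have h3 : ∑ j ∈ Finset.range l, (gx a (j + 1) - gx a j) ^ 2 ≤
      (∑ j ∈ Finset.range l, (gx a (j + 1) - gx a j)) ^ 2 :=
    sum_sq_le _ _ h1
  have h4 : ∑ j ∈ Finset.range l, (gx a (j + 1) - gx a j) = gx a l := by
    rw [Finset.sum_range_sub (gx a)]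
    simp [gx]
  rw [h4] at h3
  rw [gx_last]
  nlinarith [h2.1, h2.2, h3]

end Cfsg.Agent.H967.TI.Path
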