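import Mathlib
import Cfsg.Agent.H967.TI.Path
import Cfsg.Agent.Characters.Core

/-!
# The estimate for the path form

* `sum_norm_sq` : `∑_k |∑_i c_i φ_i k|² = |K| ∑ c_i²` for distinct irreducible characters `φ_i`;
* `estimate` : the path form of a family of irreducible characters which are proportional on a subgroup `N`.
-/

set_option autoImplicit false
set_option linter.unusedSectionVars false

namespace Cfsg.Agent.H967.TI

open Cfsg Cfsg.Agent.Characters Cfsg.Agent.Characters.Core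
open scoped ComplexConjugate
open Cfsg.Agent.H967.TI.Path

variable {K : Type*} [Group K] [Fintype K]

theorem sum_norm_sq {ι : Type*} [Fintype ι] (φ : ι → IrrCharacter K) (hφ : Function.Injective φ) (c : ι → ℝ) :
    ∑ k : K, ‖∑ i, (c i : ℂ) * (φ i : K → ℂ) k‖ ^ 2 = (Nat.card K : ℝ) * ∑ i, c i ^ 2 := by
  classical
  set D : K → ℂ := ∑ i, (c i : ℂ) • (φ i : K → ℂ) with hD
  have h1 : classInner D D = ∑ i, ((c i ^ 2 : ℝ) : ℂ) := by
    rw [hD, classInner_sum_left]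
    refine Finset.sum_congr rfl fun i _ => ?_
    rw [classInner_smul_left, classInner_sum_right, Finset.sum_eq_single i]
    · rw [classInner_smul_right, classInner_irr_self (φ i).2, Complex.conj_ofReal]
      push_cast
      ring
    · intro j _ hj
      rw [classInner_smul_right, classInner_irr_ne (φ i).2 (φ j).2 (fun h => hj (hφ (Subtype.ext h.symm))),
        mul_zero]
    · intro h; exact absurd (Finset.mem_univ _) h
  rw [classInner_self_eq_ofReal, ← Complex.ofReal_sum] at h1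
  have h2 : (Nat.card K : ℝ)⁻¹ * ∑ g : K, Complex.normSq (D g) = ∑ i, c i ^ 2 := by exact_mod_cast h1
  have h3 : (Nat.card K : ℝ) ≠ 0 := by exact_mod_cast Nat.card_pos.ne'
  rw [← h2, mul_inv_cancel_left₀ h3]
  refine Finset.sum_congr rfl fun k _ => ?_
  rw [Complex.normSq_eq_norm_sq, hD, Finset.sum_apply]
  rfl

/-- The restriction of a character has norm at least one. -/
theorem card_le_sum_norm_sq (N : Subgroup K) [Fintype N] (φ : IrrCharacter K) :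
    (Nat.card N : ℝ) ≤ ∑ n : N, ‖(φ : K → ℂ) n‖ ^ 2 := by
  have hch : IsCharacter N (fun n : N => (φ : K → ℂ) n) := by
    have := isCharacter_comp N.subtype (isIrr_isCharacter φ.2)
    exact this
  obtain ⟨m, hm⟩ := classInner_isNat hch hch
  have hm0 : m ≠ 0 := by
    rintro rfl
    rw [Nat.cast_zero] at hm
    have h1 := congrFun (classInner_self_eq_zero hm) 1
    exact isIrr_apply_one_ne_zero φ.2 (by simpa using h1)
  rw [classInner_self_eq_ofReal] at hm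
  have h2 : (Nat.card N : ℝ)⁻¹ * ∑ n : N, Complex.normSq ((φ : K → ℂ) n) = m := by exact_mod_cast hm
  have h3 : (0 : ℝ) < Nat.card N := by exact_mod_cast Nat.card_pos
  have h4 : ∑ n : N, ‖(φ : K → ℂ) n‖ ^ 2 = (Nat.card N : ℝ) * m := by
    rw [← h2, mul_inv_cancel_left₀ h3.ne']
    exact Finset.sum_congr rfl fun n _ => (Complex.normSq_eq_norm_sq _).symm
  rw [h4]
  have h5 : (1 : ℝ) ≤ m := by exact_mod_cast Nat.one_le_iff_ne_zero.2 hm0
  nlinarith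

/-- **The estimate.** -/
theorem estimate (N : Subgroup K) {l : ℕ} (φ : Fin l → IrrCharacter K) (hφ : Function.Injective φ)
    (a : Fin l → ℕ) (ha : ∀ i, (φ i : K → ℂ) 1 = a i) (hmono : Monotone a)
    (hprop : ∀ i j, ∀ n ∈ N, (φ i : K → ℂ) n / (φ i : K → ℂ) 1 = (φ j : K → ℂ) n / (φ j : K → ℂ) 1)
    (f : K → ℝ) (m c x : ℝ) (hf1 : ∀ k ∈ N, f k ≤ m) (hf2 : ∀ k ∉ N, f k ≤ c)
    (hx : (Nat.card K : ℝ) ≤ x * Nat.card N) (hcx : (x + 1) * c ≤ m) (hc0 : 0 ≤ c) (hx0 : 0 ≤ x) :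
    ∑ j : Fin (l + 1), (Nat.card K : ℝ)⁻¹ * ∑ k : K, f k * ‖∑ i : Fin l, ((coef j i : ℝ) : ℂ) * (φ i : K → ℂ) k‖ ^ 2 ≤
      2 * m := by
  classical
  have hm0 : 0 ≤ m := le_trans (mul_nonneg (by linarith) hc0) hcx
  have hmc : c ≤ m := by nlinarith
  rcases Nat.eq_zero_or_pos l with rfl | hl
  · simp only [Finset.univ_eq_empty, Finset.sum_empty, norm_zero]
    simp
    exact hm0
  have hK : (0 : ℝ) < Nat.card K := by exact_mod_cast Nat.card_pos
  have ha0 : ∀ i, (a i : ℂ) ≠ 0 := fun i => by rw [← ha]; exact isIrr_apply_one_ne_zero (φ i).2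
  have ha1 : ∀ i, (0 : ℝ) < a i := by
    intro i
    have h1 : a i ≠ 0 := fun h => ha0 i (by rw [h, Nat.cast_zero])
    exact_mod_cast Nat.pos_of_ne_zero h1
  let i0 : Fin l := ⟨l - 1, by omega⟩
  have hi0 : ∀ i, a i ≤ a i0 := fun i => hmono (by rw [Fin.le_def]; change (i : ℕ) ≤ l - 1; have := i.2; omega)
  set β : K → ℂ := fun k => (φ i0 : K → ℂ) k / (φ i0 : K → ℂ) 1 with hβ
  have hφβ : ∀ i, ∀ n ∈ N, (φ i : K → ℂ) n = a i * β n := by
    intro i n hn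
    have h1 := hprop i i0 n hn
    rw [ha i, div_eq_iff (ha0 i)] at h1
    rw [h1, mul_comm]
  set NN : Finset K := Finset.univ.filter (· ∈ N) with hNN
  set s : ℝ := (Nat.card K : ℝ)⁻¹ * ∑ k ∈ NN, ‖β k‖ ^ 2 with hs
  have hs0 : 0 ≤ s := mul_nonneg (inv_nonneg.2 hK.le) (Finset.sum_nonneg fun k _ => sq_nonneg _)
  -- sums over `N`
  have hN : ∀ d : Fin l → ℝ, ∑ k ∈ NN, ‖∑ i, (d i : ℂ) * (φ i : K → ℂ) k‖ ^ 2 =
      (∑ i, d i * a i) ^ 2 * ∑ k ∈ NN, ‖β k‖ ^ 2 := by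
    intro d
    rw [Finset.mul_sum]
    refine Finset.sum_congr rfl fun k hk => ?_
    have hk' : k ∈ N := (Finset.mem_filter.1 hk).2
    have h1 : ∑ i, (d i : ℂ) * (φ i : K → ℂ) k = ((∑ i, d i * a i : ℝ) : ℂ) * β k := by
      push_cast
      rw [Finset.sum_mul]
      refine Finset.sum_congr rfl fun i _ => ?_
      rw [hφβ i k hk']
      ring
    rw [h1, norm_mul, mul_pow, Complex.norm_real, Real.norm_eq_abs, sq_abs]
  have hNK : ∀ d : Fin l → ℝ, (∑ i, d i * a i) ^ 2 * s ≤ ∑ i, d i ^ 2 := by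
    intro d
    have h1 := sum_norm_sq φ hφ d
    have h2 : ∑ k ∈ NN, ‖∑ i, (d i : ℂ) * (φ i : K → ℂ) k‖ ^ 2 ≤
        ∑ k : K, ‖∑ i, (d i : ℂ) * (φ i : K → ℂ) k‖ ^ 2 :=
      Finset.sum_le_sum_of_subset_of_nonneg (Finset.subset_univ _) fun k _ _ => sq_nonneg _
    rw [hN d, h1] at h2
    rw [hs]
    calc (∑ i, d i * a i) ^ 2 * ((Nat.card K : ℝ)⁻¹ * ∑ k ∈ NN, ‖β k‖ ^ 2)
        = (Nat.card K : ℝ)⁻¹ * ((∑ i, d i * a i) ^ 2 * ∑ k ∈ NN, ‖β k‖ ^ 2) := by ring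
      _ ≤ (Nat.card K : ℝ)⁻¹ * ((Nat.card K : ℝ) * ∑ i, d i ^ 2) :=
          mul_le_mul_of_nonneg_left h2 (inv_nonneg.2 hK.le)
      _ = ∑ i, d i ^ 2 := inv_mul_cancel_left₀ hK.ne' _
  -- (B)
  have hB : (∑ i, (a i : ℝ) ^ 2) * s ≤ 1 := by
    have h1 := hNK fun i => a i
    have h2 : ∑ i, (a i : ℝ) * a i = ∑ i, (a i : ℝ) ^ 2 := Finset.sum_congr rfl fun i _ => (pow_two _).symm
    rw [h2] at h1
    have h3 : 0 < ∑ i, (a i : ℝ) ^ 2 :=
      Finset.sum_pos (fun i _ => pow_pos (ha1 i) 2) ⟨i0, Finset.mem_univ _⟩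
    have h4 : (∑ i, (a i : ℝ) ^ 2) * ((∑ i, (a i : ℝ) ^ 2) * s) ≤ (∑ i, (a i : ℝ) ^ 2) * 1 := by
      rw [mul_one, ← mul_assoc, ← pow_two]
      exact h1
    exact le_of_mul_le_mul_left h4 h3
  -- (A)
  have hA : ∀ i, 1 ≤ x * ((a i : ℝ) ^ 2 * s) := by
    intro i
    have := Fintype.ofFinite N
    have h1 := card_le_sum_norm_sq N (φ i)
    have h2 : ∑ n : N, ‖(φ i : K → ℂ) n‖ ^ 2 = (a i : ℝ) ^ 2 * ∑ k ∈ NN, ‖β k‖ ^ 2 := by
      rw [Finset.mul_sum, hNN, Finset.sum_subtype (p := (· ∈ N)) _ (by simp)]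
      refine Finset.sum_congr rfl fun n _ => ?_
      rw [hφβ i n n.2, norm_mul, mul_pow, Complex.norm_natCast]
    rw [h2] at h1
    have h3 : x * ((a i : ℝ) ^ 2 * s) = (Nat.card K : ℝ)⁻¹ * (x * ((a i : ℝ) ^ 2 * ∑ k ∈ NN, ‖β k‖ ^ 2)) := by
      rw [hs]; ring
    rw [h3, ← inv_mul_cancel₀ hK.ne']
    refine mul_le_mul_of_nonneg_left ?_ (inv_nonneg.2 hK.le)
    exact hx.trans (mul_le_mul_of_nonneg_left h1 hx0)
  -- the number of characters
  set t : ℝ := (a i0 : ℝ) ^ 2 * s with ht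
  have hl1 : x * t + (l - 1 : ℝ) ≤ x := by
    have h1 : (∑ i, (a i : ℝ) ^ 2) * s = t + ∑ i ∈ Finset.univ.erase i0, (a i : ℝ) ^ 2 * s := by
      rw [Finset.sum_mul, ← Finset.add_sum_erase _ _ (Finset.mem_univ i0)]
    rw [h1] at hB
    have h2 : (l - 1 : ℝ) ≤ ∑ i ∈ Finset.univ.erase i0, x * ((a i : ℝ) ^ 2 * s) := by
      have h3 : ∑ i ∈ (Finset.univ : Finset (Fin l)).erase i0, (1 : ℝ) = l - 1 := by
        rw [Finset.sum_const, Finset.card_erase_of_mem (Finset.mem_univ _), Finset.card_univ, Fintype.card_fin,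
          nsmul_eq_mul, mul_one, Nat.cast_sub hl, Nat.cast_one]
      rw [← h3]
      exact Finset.sum_le_sum fun i _ => hA i
    rw [← Finset.mul_sum] at h2
    nlinarith [mul_le_mul_of_nonneg_left hB hx0]
  have ht0 : 0 ≤ t := mul_nonneg (sq_nonneg _) hs0
  have ht1 : t ≤ 1 := by
    refine le_trans ?_ hB
    rw [Finset.sum_mul]
    exact Finset.single_le_sum (f := fun i => (a i : ℝ) ^ 2 * s)
      (fun i _ => mul_nonneg (sq_nonneg _) hs0) (Finset.mem_univ i0)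
  -- the rows
  have hrow : ∀ j : ℕ, (Nat.card K : ℝ)⁻¹ * ∑ k : K, f k * ‖∑ i : Fin l, ((coef j i : ℝ) : ℂ) * (φ i : K → ℂ) k‖ ^ 2 ≤
      (m - c) * ((∑ i : Fin l, (coef j i : ℝ) * a i) ^ 2 * s) + c * ∑ i : Fin l, (coef j i : ℝ) ^ 2 := by
    intro j
    set D : K → ℝ := fun k => ‖∑ i : Fin l, ((coef j i : ℝ) : ℂ) * (φ i : K → ℂ) k‖ ^ 2 with hD
    have hD0 : ∀ k, 0 ≤ D k := fun k => sq_nonneg _
    have h1 : ∑ k : K, f k * D k ≤ (m - c) * ∑ k ∈ NN, D k + c * ∑ k : K, D k := by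
      have h2 : (m - c) * ∑ k ∈ NN, D k = ∑ k : K, (if k ∈ N then (m - c) * D k else 0) := by
        rw [Finset.mul_sum, hNN, Finset.sum_filter]
      rw [h2, Finset.mul_sum, ← Finset.sum_add_distrib]
      refine Finset.sum_le_sum fun k _ => ?_
      split_ifs with hk
      · nlinarith [hf1 k hk, hD0 k]
      · nlinarith [hf2 k hk, hD0 k]
    have h2 : ∑ k : K, D k = (Nat.card K : ℝ) * ∑ i : Fin l, (coef j i : ℝ) ^ 2 :=
      sum_norm_sq φ hφ fun i => (coef j i : ℝ)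
    have h3 : ∑ k ∈ NN, D k = (∑ i : Fin l, (coef j i : ℝ) * a i) ^ 2 * ∑ k ∈ NN, ‖β k‖ ^ 2 :=
      hN fun i => (coef j i : ℝ)
    rw [h2, h3] at h1
    calc (Nat.card K : ℝ)⁻¹ * ∑ k : K, f k * D k
        ≤ (Nat.card K : ℝ)⁻¹ * ((m - c) * ((∑ i : Fin l, (coef j i : ℝ) * a i) ^ 2 * ∑ k ∈ NN, ‖β k‖ ^ 2) +
            c * ((Nat.card K : ℝ) * ∑ i : Fin l, (coef j i : ℝ) ^ 2)) :=
          mul_le_mul_of_nonneg_left h1 (inv_nonneg.2 hK.le)
      _ = (m - c) * ((∑ i : Fin l, (coef j i : ℝ) * a i) ^ 2 * s) + c * ∑ i : Fin l, (coef j i : ℝ) ^ 2 := by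
          rw [hs]
          field_simp
  have hsum : ∑ j : Fin (l + 1), (Nat.card K : ℝ)⁻¹ * ∑ k : K, f k * ‖∑ i : Fin l, ((coef j i : ℝ) : ℂ) * (φ i : K → ℂ) k‖ ^ 2 ≤
      (m - c) * (2 * t) + c * (2 * l) := by
    refine (Finset.sum_le_sum fun (j : Fin (l + 1)) _ => hrow (j : ℕ)).trans ?_
    rw [Finset.sum_add_distrib, ← Finset.mul_sum, ← Finset.mul_sum, ← Finset.sum_mul]
    have h1 : ∑ j : Fin (l + 1), ∑ i : Fin l, (coef j i : ℝ) ^ 2 = 2 * l := by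
      have := sum_coef_sq l
      exact_mod_cast this
    have h2 : ∑ j : Fin (l + 1), (∑ i : Fin l, (coef j i : ℝ) * a i) ^ 2 ≤ 2 * (a i0 : ℝ) ^ 2 :=
      mono_bound (fun i => (a i : ℝ)) (fun i j hij => Nat.cast_le.2 (hmono hij))
        (fun i => Nat.cast_nonneg _) (fun i => by exact_mod_cast hi0 i) (Nat.cast_nonneg _)
    rw [h1]
    have h3 := mul_le_mul_of_nonneg_right h2 hs0
    have h4 := mul_le_mul_of_nonneg_left h3 (sub_nonneg.2 hmc)
    rw [ht]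
    nlinarith
  refine hsum.trans ?_
  -- the final inequality
  have h1 : c * l ≤ c * (1 + x - x * t) := mul_le_mul_of_nonneg_left (by linarith) hc0
  have h2 : (1 - t) * ((x + 1) * c) ≤ (1 - t) * m := mul_le_mul_of_nonneg_left hcx (by linarith)
  nlinarith

end Cfsg.Agent.H967.TI
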